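import Cfsg.Agent.CosetCert.Pack

/-! Generated: the facts of the log. -/

namespace Cfsg.Agent.CosetCert.Fi22Chain3

def factStore : Store := (.leaf 0x30000b0000b050000b0000b020000b0000b010000b0000b000000b0000b020000a0000a050000a0000a010000a0000a000000a0000a010000900009050000900009040000900009000000900009050000800008000000800008040000800008030000800008040000700007030000700007020000700007000000700006010000600006040000600006030000600006020000600006010000500005040000500005030000500005020000500005020000400004040000400004030000400004030000300003050000300003040000300003000000300003040000200002050000200002010000200002000000200002050000100001020000100001010000100001000000100001050000000000030000000000020000000000010000000000000000000000040000b0000a030000a00009020000900008010000800007050000700005050000600004000000500004010000400003020000300002030000200001040000100000)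

end Cfsg.Agent.CosetCert.Fi22Chain3
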