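import Cfsg.Agent.CosetCert.Pack

/-! Generated: the justifications. -/

namespace Cfsg.Agent.CosetCert.Fi22Chain3

def justStore : Store := (.leaf 0xa000024000308000260000a82800800005d00006b000054000c4c0002e80003680002a06001a0001740001a4000150300090000ba0000ce0000a81800200005c80001000015c0001100004c1400300002a400031800026000622000152000194000130300080000a90000be0000981800180005400000e0001440000f00004414001c0002600002e80002200061c0001300001640001100030d0000980000b60000881800100004f0000180002280001a0000780028500004700009c0002680009e000078280008000470000aa000078001848000470000a6000078001840000460000860000681800980003e0000820000681800880003e00007e0000681800700003d0000120000681800280003500000c0001a80000e00005828005000035000076000058180098000350000720000581800880003500007a0000581800700003400000c0001880000e0000480028080002c0000760000480018200002c0000720000480018180002c00007a0000480018100002e0000100002b0000140000700050700004c0001980000e0006120000980003700001c000c2000012000004000128000060000280028600001c0000b40000500030e0000380001780000a00061a000070000290000140c00080000e0000000001d000004000030005100000280002700000c000c440000a00008c000030300080000280002100000c0c000c0000be0000080018980000ec0000103000d00001c8000020600120000370000040c001000006000000f800007800003a00001c00000011b0011b0011b0011b0011b001127010ca0106d0101000fb300f2a00ecd00e7000e1300d8a00d2d00cd000c7300beb00b6300b0700aab00a4f009f3009970093b008b300857007fb0079f00717006bb0065f006030057c00521004c60043f003e4003890032e002a80024e001f40019a001530010c000c50007e000640004b0003200019000000000000000000000000000000000000000000000000000000000000)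

end Cfsg.Agent.CosetCert.Fi22Chain3
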