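import Cfsg.Agent.CosetCert.Pack

/-! Generated: the table. -/

namespace Cfsg.Agent.CosetCert.Fi22Chain3

def edgeStore : Store := (.leaf 0x750000b00000150000a00000770000b00000730000b00000710000b000006f0000b000006b0000a00000140000b000001300009000006d0000a00000690000a00000670000a00000630000900000610000900000120000a000001100008000006500009000005f00009000005d00008000005900008000005700008000001000009000000f00007000005b00008000000d00005000005500007000005300007000005100007000000e00008000004f00006000000b00004000004b00006000004900006000004700006000004d00006000004e00007000000c00007000004300005000004100005000003f00005000004500005000000900004000000a00006000003b00004000003900004000003d00004000000700003000000800005000003500003000003300003000003700003000000500002000000600004000003100003000002d00002000002f00002000000300001000000400003000002b00002000002900002000002700001000000100000000000200002000002500001000002300001000002100001000001f00000000000000001000001d00000000001b00000000001900000000001700000)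

def repStore : Store := (.leaf 0xb00000000000a000000000009000000000008000000000007000000000006000000000005000000000004000000000003000000000002000000000001000000000000)

def treeStore : Store := (.leaf 0x1440000000001230000000001020000000000e10000000000a5000000000085000000000080000000000061000000000042000000000023000000000004000000000000)

end Cfsg.Agent.CosetCert.Fi22Chain3
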